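import Groth.Prelude.Def_SGA7IX
import Groth.Agent.Lib.GrpExt19.ConstSplit
import Groth.Agent.Lib.MultQuot14.Exists
import Groth.Agent.Lib.FppfQuot.Basic
import Groth.Agent.Lib.EssFree.Subgroup
import Groth.Agent.Lib.GrpSchField.Field
import Groth.Agent.Lib.DiagGrp.KernelFP
import Groth.Agent.Lib.GrpSchField.Shear
import Groth.Agent.Lib.FpqcQuot14.Descents
import Groth.Agent.Lib.Neutral.Connected

/-!
# Isogenies are composites of connected-kernel and etale-kernel isogenies
-/

set_option autoImplicit false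
set_option backward.isDefEq.respectTransparency false
set_option linter.style.haveILetI false

universe u

open CategoryTheory CategoryTheory.Limits MonoidalCategory CartesianMonoidalCategory MonObj GrpObj
open AlgebraicGeometry

namespace GrothLib.IsogFactor19

variable {k : Type u} [Field k]

theorem mono_of_mono_left {A B : Over (Spec (CommRingCat.of k))} (f : A ⟶ B) [Mono f.left] : Mono f := by
  haveI : Mono ((Over.forget (Spec (CommRingCat.of k))).map f) := ‹Mono f.left›
  exact (Over.forget _).mono_of_mono_map this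

variable {G H : Over (Spec (CommRingCat.of k))} [GrpObj G] [GrpObj H] (φ : G ⟶ H) [IsMonHom φ]

theorem exists_kernel : ∃ (N : Over (Spec (CommRingCat.of k))) (_ : GrpObj N) (n : N ⟶ G),
    IsMonHom n ∧ IsClosedImmersion n.left ∧ AlgGrp.IsKernel n φ := by
  haveI := GrothLib.GrpSchField.isSeparated H
  haveI : IsClosedImmersion η[H].left := GrothLib.DiagGrp.isClosedImmersion_one H
  let N : Over (Spec (CommRingCat.of k)) := Over.mk (pullback.fst φ.left η[H].left ≫ G.hom)
  let n : N ⟶ G := Over.homMk (pullback.fst φ.left η[H].left)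
  haveI : IsClosedImmersion n.left := inferInstanceAs (IsClosedImmersion (pullback.fst φ.left η[H].left))
  haveI : Mono n := mono_of_mono_left n
  have hu : (toUnit N).left = pullback.snd φ.left η[H].left := by
    have h := congrArg (· ≫ H.hom) (pullback.condition (f := φ.left) (g := η[H].left))
    simp only [Category.assoc, Over.w φ, Over.w η[H]] at h
    exact (Category.comp_id _).symm.trans ((Over.w (toUnit N)).trans h)
  have hk : AlgGrp.IsKernel n φ :=
    IsPullback.of_map (Over.forget _) (Over.OverMorphism.ext (by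
      show pullback.fst φ.left η[H].left ≫ φ.left = (toUnit N).left ≫ η[H].left
      rw [hu, pullback.condition])) (by
      show IsPullback (pullback.fst φ.left η[H].left) (toUnit N).left φ.left η[H].left
      rw [hu]; exact IsPullback.of_hasPullback _ _)
  have hn : ∀ {T : Over (Spec (CommRingCat.of k))} (x : T ⟶ N), (x ≫ n) ≫ φ = 1 := fun x => by
    rw [Category.assoc, hk.w, ← Category.assoc, comp_toUnit, Hom.one_def]
  have hl : ∀ {T : Over (Spec (CommRingCat.of k))} (g : T ⟶ G), g ≫ φ = 1 → ∃ z : T ⟶ N, z ≫ n = g :=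
    fun {T} g hg => ⟨hk.lift g (toUnit T) (by rw [hg, Hom.one_def]), hk.lift_fst _ _ _⟩
  obtain ⟨grp, hmon⟩ := GrothLib.EssFree.exists_grpObj_of_mono n (fun T => hl 1 (MonObj.one_comp φ))
    (fun T a b => hl _ (by rw [MonObj.mul_comp, hn, hn, _root_.mul_one]))
    (fun T a => hl _ (by rw [GrpObj.inv_comp, hn, _root_.inv_one]))
  exact ⟨N, grp, n, hmon, inferInstance, hk⟩

variable {N : Over (Spec (CommRingCat.of k))} [GrpObj N] {n : N ⟶ G} [IsMonHom n]
  {N₀ : Over (Spec (CommRingCat.of k))} [GrpObj N₀] {j : N₀ ⟶ N} [IsMonHom j]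

/-- Conjugation by the ambient group preserves a connected open subgroup of a normal subgroup. -/
theorem conj_factors [IsOpenImmersion j.left] [ConnectedSpace N₀.left]
    (hmax : ∀ C : Set N.left, _root_.IsPreconnected C →
      (η[N]).left.base (IsLocalRing.closedPoint k) ∈ C → C ⊆ Set.range j.left.base)
    (hn : ∀ (T : Over (Spec (CommRingCat.of k))) (g : T ⟶ G) (x : T ⟶ N), ∃ x' : T ⟶ N,
      g * (x ≫ n) * g⁻¹ = x' ≫ n)
    [Mono n] (T : Over (Spec (CommRingCat.of k))) (g : T ⟶ G) (x : T ⟶ N₀) :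
    ∃ x' : T ⟶ N₀, g * (x ≫ j ≫ n) * g⁻¹ = x' ≫ j ≫ n := by
  obtain ⟨x', hx'⟩ := hn T g (x ≫ j)
  rw [Category.assoc] at hx'
  suffices hr : Set.range x'.left.base ⊆ Set.range j.left.base by
    refine ⟨Over.homMk (IsOpenImmersion.lift j.left x'.left hr) ?_, ?_⟩
    · rw [← Over.w j, ← Category.assoc, IsOpenImmersion.lift_fac]
      exact Over.w x'
    · rw [hx', ← Category.assoc]
      congr 1
      exact Over.OverMorphism.ext (IsOpenImmersion.lift_fac _ _ _).symm
  rintro _ ⟨t, rfl⟩
  let P : Over (Spec (CommRingCat.of k)) := Over.mk (T.left.fromSpecResidueField t ≫ T.hom)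
  let f : P ⟶ T := Over.homMk (T.left.fromSpecResidueField t)
  obtain ⟨c, hc⟩ := hn (N₀ ⊗ P) (snd N₀ P ≫ f ≫ g) (fst N₀ P ≫ j)
  haveI : ConnectedSpace P.left := inferInstanceAs (ConnectedSpace (PrimeSpectrum (T.left.residueField t)))
  haveI : ConnectedSpace (N₀ ⊗ P).left :=
    GrothLib.Neutral.connectedSpace_pullback N₀.hom P.hom η[N₀].left (Over.w η[N₀])
  have hpre := isPreconnected_range c.left.continuous
  obtain ⟨p⟩ : Nonempty P.left := inferInstanceAs (Nonempty (PrimeSpectrum (T.left.residueField t)))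
  have hone : lift (1 : P ⟶ N₀) (𝟙 P) ≫ c = 1 := by
    rw [← cancel_mono n, Category.assoc, ← hc]
    simp only [MonObj.comp_mul, GrpObj.comp_inv, Category.assoc, lift_snd_assoc, lift_fst_assoc,
      Category.id_comp, MonObj.one_comp, _root_.mul_one, mul_inv_cancel]
  have hu : (η[N]).left.base (IsLocalRing.closedPoint k) ∈ Set.range c.left.base := by
    refine ⟨(lift (1 : P ⟶ N₀) (𝟙 P)).left.base p, ?_⟩
    rw [← Scheme.Hom.comp_apply, ← Over.comp_left, hone, Hom.one_def, Over.comp_left, Scheme.Hom.comp_apply]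
    exact congrArg _ (Subsingleton.elim (α := PrimeSpectrum k) _ _)
  have hval : lift (f ≫ x) (𝟙 P) ≫ c = f ≫ x' := by
    rw [← cancel_mono n, Category.assoc, ← hc, Category.assoc f x' n, ← hx']
    simp only [MonObj.comp_mul, GrpObj.comp_inv, Category.assoc, lift_snd_assoc, lift_fst_assoc,
      Category.id_comp]
  refine hmax _ hpre hu ⟨(lift (f ≫ x) (𝟙 P)).left.base p, ?_⟩
  rw [← Scheme.Hom.comp_apply, ← Over.comp_left, hval, Over.comp_left, Scheme.Hom.comp_apply]
  exact congrArg _ (T.left.fromSpecResidueField_apply t p)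

/-- Any kernel is isomorphic to a given one. -/
theorem kernel_iso {A B K K' : Over (Spec (CommRingCat.of k))} [GrpObj B] {q : A ⟶ B} {i : K ⟶ A} {i' : K' ⟶ A}
    (h : AlgGrp.IsKernel i q) (h' : AlgGrp.IsKernel i' q) : Nonempty (K ≅ K') :=
  ⟨IsPullback.isoIsPullback _ _ h h'⟩

set_option maxHeartbeats 800000 in
/-- Factorisation of an isogeny. -/
theorem exists_factor [LocallyOfFiniteType G.hom] [LocallyOfFiniteType H.hom] [Surjective φ.left]
    [IsClosedImmersion n.left] (hk : AlgGrp.IsKernel n φ) [IsFinite N.hom] :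
    ∃ (Q : Over (Spec (CommRingCat.of k))) (_ : GrpObj Q) (ψ : G ⟶ Q) (χ : Q ⟶ H),
      IsMonHom ψ ∧ IsMonHom χ ∧ ψ ≫ χ = φ ∧ SGA7.IsIsogenyOver ψ ∧ SGA7.IsIsogenyOver χ ∧
      (∀ (K : Over (Spec (CommRingCat.of k))) (m : K ⟶ G), AlgGrp.IsKernel m ψ → ConnectedSpace ↥K.left) ∧
      (∀ (K : Over (Spec (CommRingCat.of k))) (m : K ⟶ Q), AlgGrp.IsKernel m χ → Etale K.hom) := by
  haveI : Mono n := mono_of_mono_left n
  obtain ⟨N₀, _, j, hjm, hjo, hjc, hirr, hjl⟩ := GrothLib.GrpExt19.exists_neutral N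
  haveI := hjm; haveI := hjo; haveI := hjl; haveI := hirr
  haveI : DiscreteTopology N.left := by
    have := N.hom.isDiscrete_preimage (s := Set.univ) (by
      haveI : DiscreteTopology ↥(Spec (CommRingCat.of k)) := inferInstanceAs (DiscreteTopology (PrimeSpectrum k))
      exact isDiscrete_univ_iff.mpr inferInstance)
    rw [Set.preimage_univ] at this
    exact isDiscrete_univ_iff.mp this
  haveI : IsClosedImmersion j.left := IsClosedImmersion.of_isPreimmersion j.left (isClosed_discrete _)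
  have hmax : ∀ C : Set N.left, _root_.IsPreconnected C →
      (η[N]).left.base (IsLocalRing.closedPoint k) ∈ C → C ⊆ Set.range j.left.base := by
    intro C hC he y hy
    have h1 : y = (η[N]).left.base (IsLocalRing.closedPoint k) := hC.subsingleton hy he
    refine ⟨(η[N₀]).left.base (IsLocalRing.closedPoint k), ?_⟩
    rw [h1, ← Scheme.Hom.comp_apply, ← Over.comp_left, IsMonHom.one_hom j]
  have hnN : ∀ (T : Over (Spec (CommRingCat.of k))) (g : T ⟶ G) (x : T ⟶ N), ∃ x' : T ⟶ N,
      g * (x ≫ n) * g⁻¹ = x' ≫ n := fun T g x => by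
    have h : (g * (x ≫ n) * g⁻¹) ≫ φ = toUnit T ≫ η[H] := by
      rw [MonObj.mul_comp, MonObj.mul_comp, Category.assoc, hk.w, GrpObj.inv_comp, ← Category.assoc,
        comp_toUnit, ← Hom.one_def, _root_.mul_one, mul_inv_cancel]
    exact ⟨hk.lift _ (toUnit T) h, (hk.lift_fst _ _ h).symm⟩
  let c : N₀ ⟶ G := j ≫ n
  haveI : IsClosedImmersion c.left := inferInstanceAs (IsClosedImmersion (j.left ≫ n.left))
  haveI : Mono c := mono_of_mono_left c
  haveI : Flat N₀.hom := GrothLib.DiagGrp.flat_of_field _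
  obtain ⟨Q, ψ, hq, hQl⟩ : ∃ (Q : Over (Spec (CommRingCat.of k))) (ψ : G ⟶ Q),
      RedSub.IsQuotient c ψ ∧ LocallyOfFiniteType Q.hom := by
    obtain ⟨X, p, hf, hs, hp, sq, -, hXl, -⟩ := GrothLib.QuotGrp14.exists_quotient_artin k c
    exact ⟨X, _, GrothLib.QuotGrp14.isQuotient_inv_comp sq hf hs hp, hXl⟩
  haveI hψe : Epi ψ := GrothLib.FppfQuot.IsCover.epi ⟨hq.1, hq.2.1, hq.2.2.1⟩
  obtain ⟨grp, hψm, -⟩ := GrothLib.FppfQuot.existsUnique_grpObj c ψ ⟨hq.1, hq.2.1, hq.2.2.1⟩
    (fun a b => GrothLib.FppfQuot.comp_eq_iff hq a b)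
    (fun T g x => conj_factors hmax hnN T g x)
  haveI := hψm
  have hcφ : c ≫ φ = 1 := by
    show (j ≫ n) ≫ φ = 1
    rw [Category.assoc, hk.w, ← Category.assoc, comp_toUnit, Hom.one_def]
  have hψc : GrothLib.FppfQuot.IsCover ψ := ⟨hq.1, hq.2.1, hq.2.2.1⟩
  obtain ⟨χ, hχ⟩ := hψc.desc φ (fun a b hab => by
    obtain ⟨h, rfl⟩ := (GrothLib.FppfQuot.comp_eq_iff hq a b).1 hab
    rw [MonObj.mul_comp, Category.assoc, hcφ, MonObj.comp_one, _root_.mul_one])
  haveI hχm : IsMonHom χ := by
    refine ⟨?_, ?_⟩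
    · rw [← IsMonHom.one_hom ψ, Category.assoc, hχ, IsMonHom.one_hom φ]
    · haveI := (hψc.tensor hψc).epi
      rw [← cancel_epi (ψ ⊗ₘ ψ), ← Category.assoc, ← IsMonHom.mul_hom ψ, Category.assoc, hχ,
        IsMonHom.mul_hom φ, ← Category.assoc (ψ ⊗ₘ ψ), MonoidalCategory.tensorHom_comp_tensorHom, hχ]
  haveI := hq.1
  haveI : Surjective χ.left := by
    haveI : Surjective (ψ.left ≫ χ.left) := by rw [← Over.comp_left, hχ]; infer_instance
    exact Surjective.of_comp ψ.left χ.left
  have hkψ : AlgGrp.IsKernel c ψ := by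
    have h := GrothLib.FpqcQuot14.isPullback_unit (u := c) (p := ψ) hq.2.2.2.flip
    rwa [IsMonHom.one_hom ψ] at h
  haveI := hQl
  obtain ⟨M, _, m, hmm, hmc, hmk⟩ := exists_kernel χ
  haveI := hmm; haveI := hmc
  haveI : Mono m := mono_of_mono_left m
  haveI : LocallyOfFiniteType M.hom := by rw [← Over.w m]; infer_instance
  -- the projection `N ⟶ M`
  have hπe : (n ≫ ψ) ≫ χ = toUnit N ≫ η[H] := by rw [Category.assoc, hχ]; exact hk.w
  let π : N ⟶ M := hmk.lift (n ≫ ψ) (toUnit N) hπe
  have hπ : π ≫ m = n ≫ ψ := hmk.lift_fst _ _ _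
  have sqπ : IsPullback π n m ψ := by
    refine IsPullback.of_right (h₁₂ := toUnit M) (v₁₃ := η[H]) (h₂₂ := χ) ?_ hπ hmk.flip
    rw [comp_toUnit, hχ]
    exact hk.flip
  have sqπ' := (sqπ.map (Over.forget _)).flip.flip
  haveI : Surjective π.left := MorphismProperty.of_isPullback (P := @Surjective) sqπ'.flip hq.1
  haveI : Flat π.left := MorphismProperty.of_isPullback (P := @Flat) sqπ'.flip hq.2.1
  haveI : LocallyOfFinitePresentation π.left :=
    MorphismProperty.of_isPullback (P := @LocallyOfFinitePresentation) sqπ'.flip hq.2.2.1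
  haveI : CompactSpace N.left := QuasiCompact.compactSpace_of_compactSpace N.hom
  haveI : CompactSpace M.left := π.left.surjective.compactSpace π.left.continuous
  haveI : QuasiCompact π.left := by
    haveI := GrothLib.GrpSchField.isSeparated M
    haveI : QuasiCompact (π.left ≫ M.hom) := by rw [Over.w π]; infer_instance
    exact QuasiCompact.of_comp π.left M.hom
  -- the unit of `M` is an open immersion
  have sqη : IsPullback j (toUnit N₀) π η[M] := by
    refine IsPullback.of_right (h₁₂ := n) (v₁₃ := ψ) (h₂₂ := m) ?_ ?_ sqπ.flip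
    · rw [IsMonHom.one_hom m]
      exact hkψ
    · rw [← cancel_mono m, Category.assoc, hπ, Category.assoc, IsMonHom.one_hom m, ← Category.assoc, hkψ.w]
  haveI : IsOpenImmersion η[M].left :=
    MorphismProperty.of_isPullback_of_descendsAlong (P := @IsOpenImmersion) (Q := GrothLib.EtSite.fpqcCov)
      (sqη.map (Over.forget _)) ⟨⟨‹_›, ‹_›⟩, ‹_›⟩ hjo
  haveI : IsOpenImmersion (pullback.diagonal M.hom) :=
    GrothLib.GrpSchField.diagonal_property (G := M) (P := @IsOpenImmersion) ‹_›
  haveI : Flat M.hom := GrothLib.DiagGrp.flat_of_field _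
  haveI : LocallyOfFinitePresentation M.hom := GrothLib.GrpSchField.lfp_of_isLocallyNoetherian _
  haveI hMet : Etale M.hom := Etale.of_formallyUnramified_of_flat M.hom
  haveI : QuasiCompact M.hom := inferInstance
  haveI : LocallyQuasiFinite (π.left ≫ M.hom) := by rw [Over.w π]; infer_instance
  haveI : LocallyQuasiFinite M.hom := GrothLib.FpqcQuot14.locallyQuasiFinite_of_comp (c := π.left) M.hom
  haveI hMfin : IsFinite M.hom := IsFinite.of_locallyQuasiFinite M.hom
  haveI hN₀fin : IsFinite N₀.hom := by rw [← Over.w j]; infer_instance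
  refine ⟨Q, grp, ψ, χ, hψm, hχm, hχ, ⟨hq.1, fun K i hi => ?_⟩, ⟨‹_›, fun K i hi => ?_⟩, fun K i hi => ?_, fun K i hi => ?_⟩
  · obtain ⟨e⟩ := kernel_iso hi hkψ
    rw [← Over.w e.hom]; haveI : IsIso e.hom.left := GrothLib.GrpSchField.isIso_left e.hom
    infer_instance
  · obtain ⟨e⟩ := kernel_iso hi hmk
    rw [← Over.w e.hom]; haveI : IsIso e.hom.left := GrothLib.GrpSchField.isIso_left e.hom
    infer_instance
  · obtain ⟨e⟩ := kernel_iso hkψ hi
    haveI : IsIso e.hom.left := GrothLib.GrpSchField.isIso_left e.hom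
    haveI : IrreducibleSpace N₀.left := hirr
    exact e.hom.left.surjective.connectedSpace e.hom.left.continuous
  · obtain ⟨e⟩ := kernel_iso hi hmk
    rw [← Over.w e.hom]; haveI : IsIso e.hom.left := GrothLib.GrpSchField.isIso_left e.hom
    infer_instance

end GrothLib.IsogFactor19
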